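import Mathlib

/-!
# Short presentations of SL2: the abstract part
-/

set_option autoImplicit false

namespace Cfsg.Agent.SL2Pres

open Polynomial

/-- Iterated conjugate. -/
def cj {P : Type*} [Group P] (x u : P) (i : ℕ) : P := x ^ i * u * (x ^ i)⁻¹

/-- The word `∏ x^i u^(g_i) x^(-i)` attached to a polynomial. -/
noncomputable def pword {P : Type*} [Group P] {p : ℕ} (x u : P) (g : (ZMod p)[X]) : P :=
  ((List.range (g.natDegree + 1)).map fun i => x ^ i * u ^ (g.coeff i).val * (x ^ i)⁻¹).prod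

theorem map_pword {P Q : Type*} [Group P] [Group Q] {p : ℕ} (f : P →* Q) (x u : P)
    (g : (ZMod p)[X]) : f (pword x u g) = pword (f x) (f u) g := by
  simp [pword, map_list_prod, List.map_map, Function.comp_def, map_pow]

section

variable {P : Type*} [Group P] (x u : P)

theorem cj_zero : cj x u 0 = u := by simp [cj]

theorem cj_succ (i : ℕ) : cj x u (i + 1) = MulAut.conj x (cj x u i) := by
  simp [cj, pow_succ', mul_assoc]

theorem cj_add (i j : ℕ) : cj x u (i + j) = MulAut.conj (x ^ i) (cj x u j) := by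
  simp only [cj, MulAut.conj_apply, pow_add, _root_.mul_inv_rev, mul_assoc]

theorem commute_cj_all (h : ∀ n, Commute u (cj x u n)) (i j : ℕ) : Commute (cj x u i) (cj x u j) := by
  wlog hij : i ≤ j generalizing i j with H
  · exact (H j i (le_of_not_ge hij)).symm
  obtain ⟨d, rfl⟩ := Nat.exists_eq_add_of_le hij
  have := (h d).map (MulAut.conj (x ^ i))
  rw [cj_add]
  simpa only [cj, MulAut.conj_apply] using this

/-- The Campbell–Robertson–Williams commutation lemma. -/
theorem commute_cj_of_step {y : P} (h1 : Commute u (cj x u 1))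
    (hy : y * u * y⁻¹ = u * cj x u 1) (hxy : Commute x y) (n : ℕ) : Commute u (cj x u n) := by
  have hyc : ∀ m, MulAut.conj y (cj x u m) = cj x u m * cj x u (m + 1) := by
    intro m
    calc MulAut.conj y (cj x u m) = x ^ m * (y * u * y⁻¹) * (x ^ m)⁻¹ := by
          have e : y * x ^ m = x ^ m * y := (hxy.pow_left m).eq.symm
          simp only [MulAut.conj_apply, cj]
          calc y * (x ^ m * u * (x ^ m)⁻¹) * y⁻¹ = y * x ^ m * u * (y * x ^ m)⁻¹ := by group
            _ = x ^ m * y * u * (x ^ m * y)⁻¹ := by rw [e]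
            _ = _ := by group
      _ = cj x u m * cj x u (m + 1) := by
          rw [hy]; simp [cj, pow_succ]; group
  induction n using Nat.strong_induction_on with
  | _ n ih =>
    rcases n with _ | _ | n
    · simp [cj_zero]
    · exact h1
    · have hu : MulAut.conj y u = u * cj x u 1 := by simpa using hy
      have hm := (ih (n + 1) (by omega)).map (MulAut.conj y)
      rw [hu, hyc] at hm
      have ha : Commute u (cj x u (n + 1)) := ih (n + 1) (by omega)
      have hca : Commute (cj x u 1) (cj x u (n + 1)) := by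
        have := (ih n (by omega)).map (MulAut.conj x)
        rwa [← cj_succ, show MulAut.conj x u = cj x u 1 by simp [cj]] at this
      have hcb : Commute (cj x u 1) (cj x u (n + 2)) := by
        have := (ih (n + 1) (by omega)).map (MulAut.conj x)
        rwa [← cj_succ, show MulAut.conj x u = cj x u 1 by simp [cj]] at this
      generalize cj x u 1 = c at hm hca hcb
      generalize cj x u (n + 1) = a at hm ha hca
      show Commute u (cj x u (n + 2))
      generalize cj x u (n + 2) = b at hm hcb ⊢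
      have key : a * (u * b) * c = a * (b * u) * c := by
        calc a * (u * b) * c = (a * u) * (b * c) := by group
          _ = (u * a) * (c * b) := by rw [ha.eq, hcb.eq]
          _ = u * (a * c) * b := by group
          _ = u * (c * a) * b := by rw [hca.eq]
          _ = (u * c) * (a * b) := by group
          _ = (a * b) * (u * c) := hm.eq
          _ = a * (b * u) * c := by group
      exact mul_left_cancel (mul_right_cancel key)

end

theorem prod_map_mul {P : Type*} [Group P] {α : Type*} (f g : α → P) (l : List α)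
    (h : ∀ i j, Commute (g i) (f j)) :
    (l.map fun i => f i * g i).prod = (l.map f).prod * (l.map g).prod := by
  induction l with
  | nil => simp
  | cons a l ih =>
    simp only [List.map_cons, List.prod_cons, ih]
    have hc : Commute (g a) (l.map f).prod :=
      Commute.list_prod_right _ _ fun z hz => by
        obtain ⟨j, -, rfl⟩ := List.mem_map.mp hz; exact h a j
    calc f a * g a * ((l.map f).prod * (l.map g).prod)
        = f a * (g a * (l.map f).prod) * (l.map g).prod := by group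
      _ = f a * ((l.map f).prod * g a) * (l.map g).prod := by rw [hc.eq]
      _ = _ := by group

/-- An element of the form `pword x u f` fixed by the step conjugations is trivial. -/
theorem merged_trivial {P : Type*} [Group P] {p : ℕ} {x u y c : P}
    (hc : ∀ i j, Commute (cj x u i) (cj x u j)) (hy : y * u * y⁻¹ = u * cj x u 1)
    (hxy : Commute x y) (f : (ZMod p)[X]) (hf : pword x u f = c) (hcx : Commute c x)
    (hcy : Commute c y) : c = 1 := by
  have hpow : ∀ (z : P) (i k : ℕ), x ^ i * z ^ k * (x ^ i)⁻¹ = (x ^ i * z * (x ^ i)⁻¹) ^ k :=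
    fun z i k => conj_pow.symm
  have e : MulAut.conj y c = c * MulAut.conj x c := by
    conv_lhs => rw [← hf]
    rw [← MulEquiv.coe_toMonoidHom, map_pword]
    have e2 : MulAut.conj x c = pword x (cj x u 1) f := by
      conv_lhs => rw [← hf]
      rw [← MulEquiv.coe_toMonoidHom, map_pword]
      simp [cj]
    rw [e2]
    conv_rhs => arg 1; rw [← hf]
    simp only [pword, MulEquiv.coe_toMonoidHom, MulAut.conj_apply, hy, hxy.eq.symm,
      mul_inv_cancel_right]
    rw [← prod_map_mul]
    · congr 1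
      refine List.map_congr_left fun i _ => ?_
      have hm : Commute u (cj x u 1) := by simpa [cj_zero] using hc 0 1
      rw [hm.mul_pow]
      group
    · intro i j
      have := ((hc (i + 1) j).pow_pow (f.coeff i).val (f.coeff j).val)
      rw [hpow, hpow]
      convert this using 2 <;> simp [cj, pow_succ, mul_assoc]
  have h1 : MulAut.conj y c = c := by simp [hcy.eq.symm]
  have h2 : MulAut.conj x c = c := by simp [hcx.eq.symm]
  rw [h1, h2] at e
  exact mul_eq_left.mp e.symm

/-- The module-theoretic core. -/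
theorem param_core {p : ℕ} [Fact p.Prime] {M : Type*} [AddCommGroup M] [Module (ZMod p) M]
    {F : Type*} [Field F] [Algebra (ZMod p) F] {l μ : F}
    (hgen : Function.Surjective ⇑(Polynomial.aeval l : (ZMod p)[X] →ₐ[ZMod p] F)) (X H : Module.End (ZMod p) M)
    (u₀ : M) (hf : aeval X (minpoly (ZMod p) l) u₀ = 0) (g₀ : (ZMod p)[X])
    (hg₀ : aeval l g₀ = μ) (hHX : Commute H X) (hHu : H u₀ = aeval X g₀ u₀) :
    ∃ φ : F → M, φ 0 = 0 ∧ φ 1 = u₀ ∧ (∀ a b, φ (a + b) = φ a + φ b) ∧
      ∀ b, H (φ b) = φ (μ * b) := by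
  have hzero : ∀ g : (ZMod p)[X], aeval l g = 0 → aeval X g u₀ = 0 := by
    intro g hg
    obtain ⟨r, rfl⟩ := minpoly.dvd (ZMod p) l hg
    rw [mul_comm, map_mul, Module.End.mul_apply, hf, map_zero]
  have hwell : ∀ g g' : (ZMod p)[X], aeval l g = aeval l g' → aeval X g u₀ = aeval X g' u₀ := by
    intro g g' hgg
    have := hzero (g - g') (by rw [map_sub, hgg, sub_self])
    rw [map_sub, LinearMap.sub_apply] at this
    exact sub_eq_zero.mp this
  choose Pb hPb using hgen
  refine ⟨fun b => aeval X (Pb b) u₀, ?_, ?_, ?_, ?_⟩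
  · simpa using hwell (Pb 0) 0 (by rw [hPb, map_zero])
  · simpa using hwell (Pb 1) 1 (by rw [hPb, map_one])
  · intro a b
    simpa using hwell (Pb (a + b)) (Pb a + Pb b) (by rw [hPb, map_add, hPb, hPb])
  · intro b
    have hca : ∀ g : (ZMod p)[X], H * aeval X g = aeval X g * H := by
      intro g
      induction g using Polynomial.induction_on' with
      | add g1 g2 e1 e2 => rw [map_add, mul_add, add_mul, e1, e2]
      | monomial k a =>
        rw [aeval_monomial, ← Algebra.smul_def, mul_smul_comm, smul_mul_assoc,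
          (hHX.pow_right k).eq]
    show H (aeval X (Pb b) u₀) = aeval X (Pb (μ * b)) u₀
    rw [← Module.End.mul_apply, hca, Module.End.mul_apply, hHu, ← Module.End.mul_apply, ← map_mul]
    exact hwell _ _ (by rw [map_mul, hPb, hPb, hg₀, mul_comm])

/-- The core, in a commutative group mapped into `P`. -/
theorem param_mult {P A : Type*} [Group P] [CommGroup A] {p : ℕ} [Fact p.Prime]
    [Module (ZMod p) (Additive A)] {F : Type*} [Field F] [Algebra (ZMod p) F] {l μ : F}
    (hgen : Function.Surjective ⇑(Polynomial.aeval l : (ZMod p)[X] →ₐ[ZMod p] F))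
    (ι : A →* P) (hι : Function.Injective ι) (Xm Hm : A →* A) {x h u : P} (a₀ : A) (ha₀ : ι a₀ = u)
    (hXm : ∀ a, ι (Xm a) = x * ι a * x⁻¹) (hHm : ∀ a, ι (Hm a) = h * ι a * h⁻¹)
    (hf : pword x u (minpoly (ZMod p) l) = 1) (g₀ : (ZMod p)[X]) (hg₀ : aeval l g₀ = μ)
    (hhx : Commute h x) (hhu : h * u * h⁻¹ = pword x u g₀) :
    ∃ φ : F → P, φ 0 = 1 ∧ φ 1 = u ∧ (∀ a b, φ (a + b) = φ a * φ b) ∧
      ∀ b, h * φ b * h⁻¹ = φ (μ * b) := by
  let X' : Module.End (ZMod p) (Additive A) := (MonoidHom.toAdditive Xm).toZModLinearMap p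
  let H' : Module.End (ZMod p) (Additive A) := (MonoidHom.toAdditive Hm).toZModLinearMap p
  let u₀ : Additive A := Additive.ofMul a₀
  let co : Additive A → P := fun v => ι (Additive.toMul v)
  have hco : Function.Injective co := hι.comp Additive.toMul.injective
  have hXc : ∀ v, co (X' v) = x * co v * x⁻¹ := fun v => hXm _
  have hHc : ∀ v, co (H' v) = h * co v * h⁻¹ := fun v => hHm _
  have hXpow : ∀ i, co ((X' ^ i) u₀) = cj x u i := by
    intro i
    induction i with
    | zero => simp [co, u₀, ha₀, cj_zero]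
    | succ i ih => rw [pow_succ', Module.End.mul_apply, hXc, ih, cj_succ, MulAut.conj_apply]
  have hEword : ∀ g : (ZMod p)[X], co (aeval X' g u₀) = pword x u g := by
    intro g
    have hE : aeval X' g u₀ =
        ∑ i ∈ Finset.range (g.natDegree + 1), (g.coeff i).val • (X' ^ i) u₀ := by
      simp only [aeval_eq_sum_range, LinearMap.sum_apply, LinearMap.smul_apply]
      refine Finset.sum_congr rfl fun i _ => ?_
      conv_lhs => rw [← ZMod.natCast_rightInverse (g.coeff i), Nat.cast_smul_eq_nsmul]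
    rw [hE, pword]
    generalize g.natDegree + 1 = n
    induction n with
    | zero => simp [co]
    | succ n ih =>
      have e : ∀ v w : Additive A, co (v + w) = co v * co w := fun v w => map_mul ι _ _
      have e' : ∀ (k : ℕ) (v : Additive A), co (k • v) = co v ^ k := fun k v => map_pow ι _ _
      rw [Finset.sum_range_succ, e, ih, e', hXpow, List.range_succ, List.map_append,
        List.prod_append]
      simp [cj]
      try rfl
  have hHX : Commute H' X' := by
    refine LinearMap.ext fun v => hco ?_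
    rw [Module.End.mul_apply, Module.End.mul_apply, hHc, hXc, hXc, hHc]
    calc h * (x * co v * x⁻¹) * h⁻¹ = h * x * co v * (h * x)⁻¹ := by group
      _ = x * h * co v * (x * h)⁻¹ := by rw [hhx.eq]
      _ = _ := by group
  obtain ⟨φ, h0, h1, hadd, hH⟩ := param_core hgen X' H' u₀
    (hco (by rw [hEword, hf]; simp [co])) g₀ hg₀ hHX
    (hco (by rw [hEword, ← hhu, hHc]; simp [co, u₀, ha₀]))
  refine ⟨fun b => co (φ b), ?_, ?_, fun a b => ?_, fun b => ?_⟩
  · simp [h0, co]
  · simp [h1, co, u₀, ha₀]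
  · simp [hadd, co]
  · rw [← hHc, hH]

/-- The additive parametrisation of the root group. -/
theorem exists_param {P : Type*} [Group P] {p : ℕ} [Fact p.Prime] {F : Type*} [Field F] [Fintype F]
    [Algebra (ZMod p) F] {x u h : P} {l μ : F} (hp : u ^ p = 1)
    (hc : ∀ i j, Commute (cj x u i) (cj x u j))
    (hgen : Function.Surjective (Polynomial.aeval (R := ZMod p) l))
    (hf : pword x u (minpoly (ZMod p) l) = 1) (g₀ : (ZMod p)[X]) (hg₀ : aeval l g₀ = μ)
    (hhx : Commute h x) (hhu : h * u * h⁻¹ = pword x u g₀) :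
    ∃ φ : F → P, φ 0 = 1 ∧ φ 1 = u ∧ (∀ a b, φ (a + b) = φ a * φ b) ∧
      ∀ b, h * φ b * h⁻¹ = φ (μ * b) := by
  let A : Subgroup P := Subgroup.closure (Set.range (cj x u))
  have hAc : ∀ a ∈ A, ∀ b ∈ A, a * b = b * a := by
    have hcomm : IsMulCommutative A :=
      Subgroup.isMulCommutative_closure (by rintro _ ⟨i, rfl⟩ _ ⟨j, rfl⟩; exact (hc i j).eq)
    intro a ha b hb
    exact congrArg Subtype.val (hcomm.is_comm.comm (⟨a, ha⟩ : A) ⟨b, hb⟩)
  let instA : CommGroup A := { (inferInstance : Group A) with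
    mul_comm := fun a b => Subtype.ext (hAc a.1 a.2 b.1 b.2) }
  have hAp : ∀ a ∈ A, a ^ p = 1 := by
    intro a ha
    induction ha using Subgroup.closure_induction with
    | mem z hz =>
      obtain ⟨i, rfl⟩ := hz
      rw [cj, conj_pow, hp, mul_one, mul_inv_cancel]
    | one => simp
    | mul a b ha' hb' iha ihb => rw [(Commute.mul_pow (hAc a ha' b hb')), iha, ihb, one_mul]
    | inv a ha' iha => rw [inv_pow, iha, inv_one]
  let instM : Module (ZMod p) (Additive A) := AddCommGroup.zmodModule fun z => by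
    apply Additive.toMul.injective
    rw [toMul_nsmul, toMul_zero]
    exact Subtype.ext (by simpa using hAp _ z.toMul.2)
  have stable : ∀ z : P, (∀ i, MulAut.conj z (cj x u i) ∈ A) → ∀ a ∈ A, MulAut.conj z a ∈ A := by
    intro z hz
    have : A ≤ A.comap (MulAut.conj z).toMonoidHom :=
      (Subgroup.closure_le _).mpr (by rintro _ ⟨i, rfl⟩; exact hz i)
    exact fun a ha => this ha
  have hxA := stable x fun i => by rw [← cj_succ]; exact Subgroup.subset_closure ⟨_, rfl⟩
  have hu : u ∈ A := Subgroup.subset_closure ⟨0, cj_zero x u⟩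
  have hX : ∀ i, MulAut.conj h (cj x u i) ∈ A := by
    intro i
    have e : h * x ^ i = x ^ i * h := (hhx.pow_right i).eq
    have : MulAut.conj h (cj x u i) = MulAut.conj (x ^ i) (h * u * h⁻¹) := by
      simp only [MulAut.conj_apply, cj]
      calc h * (x ^ i * u * (x ^ i)⁻¹) * h⁻¹ = h * x ^ i * u * (h * x ^ i)⁻¹ := by group
        _ = x ^ i * h * u * (x ^ i * h)⁻¹ := by rw [e]
        _ = _ := by group
    rw [this, hhu]
    refine stable _ (fun k => by rw [← cj_add]; exact Subgroup.subset_closure ⟨_, rfl⟩) _ ?_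
    refine list_prod_mem fun z hz => ?_
    obtain ⟨k, -, rfl⟩ := List.mem_map.mp hz
    rw [← conj_pow]
    exact pow_mem (Subgroup.subset_closure (Set.mem_range_self (f := cj x u) k)) _
  have hhA := stable h hX
  exact param_mult (p := p) hgen A.subtype A.subtype_injective
    (((MulAut.conj x).toMonoidHom.comp A.subtype).codRestrict A fun a => hxA a.1 a.2)
    (((MulAut.conj h).toMonoidHom.comp A.subtype).codRestrict A fun a => hhA a.1 a.2)
    ⟨u, hu⟩ rfl (fun _ => rfl) (fun _ => rfl) hf g₀ hg₀ hhx hhu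

/-- The Bruhat bound. -/
theorem card_le {P : Type*} [Group P] {F : Type*} [Field F] [Fintype F] (φ : F → P) (h w : P)
    (N : ℕ) (μ : F) (hN : 0 < N) (hμ : μ ≠ 0) (hφ0 : φ 0 = 1)
    (hadd : ∀ a b, φ (a + b) = φ a * φ b) (hconj : ∀ b, h * φ b * h⁻¹ = φ (μ * b))
    (hh : h ^ N = 1) (hw : w * h * w⁻¹ = h⁻¹) (e : ℕ) (hw2 : w * w = h ^ e)
    (hrep : ∀ b : F, b ≠ 0 → ∃ (k : ℕ) (ε : F), b = μ ^ k * ε ∧
      ∃ (a a' : F) (i : ℕ), w * φ ε * w = φ a * h ^ i * w * φ a')
    (hgen : Subgroup.closure ({φ 1, h, w} : Set P) = ⊤) :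
    Finite P ∧ Nat.card P ≤ Fintype.card F * N * (Fintype.card F + 1) := by
  have hconjz : ∀ (k : ℤ) (b : F), h ^ k * φ b = φ (μ ^ k * b) * h ^ k := by
    intro k
    induction k using Int.induction_on with
    | zero => simp
    | succ i ih =>
      intro b
      have e1 : h * φ b = φ (μ * b) * h := by rw [← hconj]; group
      rw [zpow_add_one, mul_assoc, e1, ← mul_assoc, ih, zpow_add_one₀ hμ]
      simp [mul_assoc]
    | pred i ih =>
      intro b
      have e1 : h⁻¹ * φ b = φ (μ⁻¹ * b) * h⁻¹ := by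
        have := hconj (μ⁻¹ * b)
        rw [← mul_assoc μ, mul_inv_cancel₀ hμ, one_mul] at this
        rw [← this]; group
      rw [zpow_sub_one, mul_assoc, e1, ← mul_assoc, ih, zpow_sub_one₀ hμ]
      simp [mul_assoc]
  have hwz : ∀ k : ℤ, w * h ^ k = h ^ (-k) * w := by
    intro k
    have : MulAut.conj w (h ^ k) = h ^ (-k) := by
      rw [map_zpow, MulAut.conj_apply, hw, inv_zpow']
    rw [← this, MulAut.conj_apply]; group
  let S : Set P := {z | ∃ (a : F) (i : ℤ), z = φ a * h ^ i} ∪
    {z | ∃ (a : F) (i : ℤ) (b : F), z = φ a * h ^ i * w * φ b}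
  have hSu : ∀ z ∈ S, ∀ c, z * φ c ∈ S := by
    rintro z (⟨a, i, rfl⟩ | ⟨a, i, b, rfl⟩) c
    · exact Or.inl ⟨a + μ ^ i * c, i, by rw [mul_assoc, hconjz, ← mul_assoc, ← hadd]⟩
    · exact Or.inr ⟨a, i, b + c, by rw [mul_assoc, ← hadd]⟩
  have hSh : ∀ z ∈ S, ∀ k : ℤ, z * h ^ k ∈ S := by
    rintro z (⟨a, i, rfl⟩ | ⟨a, i, b, rfl⟩) k
    · exact Or.inl ⟨a, i + k, by rw [zpow_add, mul_assoc]⟩
    · refine Or.inr ⟨a, i - k, μ ^ (-k) * b, ?_⟩
      have e1 : φ b * h ^ k = h ^ k * φ (μ ^ (-k) * b) := by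
        rw [hconjz, ← mul_assoc (μ ^ k), ← zpow_add₀ hμ]; simp
      calc φ a * h ^ i * w * φ b * h ^ k = φ a * h ^ i * w * (φ b * h ^ k) := by group
        _ = φ a * h ^ i * (w * h ^ k) * φ (μ ^ (-k) * b) := by rw [e1]; group
        _ = φ a * h ^ i * (h ^ (-k) * w) * φ (μ ^ (-k) * b) := by rw [hwz]
        _ = _ := by group
  have hSw : ∀ z ∈ S, z * w ∈ S := by
    rintro z (⟨a, i, rfl⟩ | ⟨a, i, b, rfl⟩)
    · exact Or.inr ⟨a, i, 0, by rw [hφ0, mul_one]⟩
    · rcases eq_or_ne b 0 with rfl | hb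
      · refine Or.inl ⟨a, i + e, ?_⟩
        rw [hφ0, mul_one, zpow_add, zpow_natCast, ← hw2]; group
      · obtain ⟨k, ε, rfl, a₁, a₂, j, hj⟩ := hrep b hb
        have e1 : φ (μ ^ k * ε) = h ^ (k : ℤ) * φ ε * h ^ (-(k : ℤ)) := by
          rw [hconjz, zpow_natCast μ]; group
        have hmid : w * φ (μ ^ k * ε) * w = h ^ (-(k : ℤ)) * (w * φ ε * w) * h ^ (k : ℤ) := by
          rw [e1]
          calc w * (h ^ (k : ℤ) * φ ε * h ^ (-(k : ℤ))) * w
              = (w * h ^ (k : ℤ)) * φ ε * (h ^ (-(k : ℤ)) * w) := by group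
            _ = (h ^ (-(k : ℤ)) * w) * φ ε * (w * h ^ (k : ℤ)) := by rw [← hwz k]
            _ = _ := by group
        have : φ a * h ^ i * w * φ (μ ^ k * ε) * w =
            φ a * h ^ i * (h ^ (-(k : ℤ)) * (φ a₁ * h ^ j * w * φ a₂) * h ^ (k : ℤ)) := by
          rw [← hj, ← hmid]; group
        rw [this]
        refine (?_ : φ a * h ^ i * (h ^ (-(k : ℤ)) * (φ a₁ * h ^ j * w * φ a₂) * h ^ (k : ℤ)) ∈ S)
        have e2 : φ a * h ^ i * (h ^ (-(k : ℤ)) * (φ a₁ * h ^ j * w * φ a₂) * h ^ (k : ℤ)) =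
            φ (a + μ ^ (i - (k : ℤ)) * a₁) * h ^ (i - (k : ℤ) + j) * w * φ a₂ * h ^ (k : ℤ) := by
          rw [hadd, zpow_add]
          calc φ a * h ^ i * (h ^ (-(k : ℤ)) * (φ a₁ * h ^ j * w * φ a₂) * h ^ (k : ℤ))
              = φ a * (h ^ (i - (k : ℤ)) * φ a₁) * h ^ j * w * φ a₂ * h ^ (k : ℤ) := by group
            _ = _ := by rw [hconjz]; group
        rw [e2]
        exact hSh _ (Or.inr ⟨_, _, _, rfl⟩) _
  have h1S : (1 : P) ∈ S := Or.inl ⟨0, 0, by simp [hφ0]⟩
  have hφneg : ∀ b, φ (-b) = (φ b)⁻¹ :=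
    fun b => eq_inv_of_mul_eq_one_left (by rw [← hadd, neg_add_cancel, hφ0])
  have hall : ∀ z : P, z ∈ S := by
    intro z
    have hz : z ∈ Subgroup.closure ({φ 1, h, w} : Set P) := by rw [hgen]; trivial
    induction hz using Subgroup.closure_induction_right with
    | one => exact h1S
    | mul_right a _ b hb ih =>
      rcases hb with hb | hb | hb <;> rw [hb]
      · exact hSu a ih 1
      · simpa using hSh a ih 1
      · exact hSw a ih
    | mul_inv_cancel a _ b hb ih =>
      rcases hb with hb | hb | hb <;> rw [hb]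
      · rw [← hφneg]; exact hSu a ih _
      · simpa using hSh a ih (-1)
      · have : w⁻¹ = w * h ^ (-(e : ℤ)) := by
          rw [zpow_neg, zpow_natCast, ← hw2]; group
        rw [this, ← mul_assoc]
        exact hSh _ (hSw a ih) _
  have : NeZero N := ⟨hN.ne'⟩
  let Ψ : (F × Fin N) × Option F → P := fun t =>
    match t.2 with
    | none => φ t.1.1 * h ^ (t.1.2 : ℕ)
    | some b => φ t.1.1 * h ^ (t.1.2 : ℕ) * w * φ b
  have hmod : ∀ i : ℤ, ∃ j : Fin N, h ^ i = h ^ (j : ℕ) := by
    intro i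
    refine ⟨⟨(i % N).toNat, ?_⟩, ?_⟩
    · have := Int.emod_lt_of_pos i (by exact_mod_cast hN : (0 : ℤ) < N)
      omega
    · have h0 := Int.emod_nonneg i (by exact_mod_cast hN.ne' : (N : ℤ) ≠ 0)
      rw [← zpow_natCast, Fin.val_mk, Int.toNat_of_nonneg h0]
      conv_lhs => rw [← Int.emod_add_mul_ediv i N, zpow_add, zpow_mul, zpow_natCast, hh, one_zpow, mul_one]
  have hsurj : Function.Surjective Ψ := by
    intro z
    rcases hall z with ⟨a, i, rfl⟩ | ⟨a, i, b, rfl⟩ <;> obtain ⟨j, hj⟩ := hmod i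
    · exact ⟨((a, j), none), by simp [Ψ, hj]⟩
    · exact ⟨((a, j), some b), by simp [Ψ, hj]⟩
  refine ⟨Finite.of_surjective Ψ hsurj, (Nat.card_le_card_of_surjective Ψ hsurj).trans ?_⟩
  simp

end Cfsg.Agent.SL2Pres
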