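import Mathlib

/-!
# Field elements used in the short presentations
-/

set_option autoImplicit false

namespace Cfsg.Agent.SL2Pres

open Polynomial IntermediateField

variable {p : ℕ} [Fact p.Prime] {F : Type*} [Field F] [Fintype F] [Algebra (ZMod p) F]

theorem exists_gen_unit (F : Type*) [Field F] [Fintype F] :
    ∃ ν : Fˣ, orderOf ν = Fintype.card F - 1 := by
  classical
  obtain ⟨ν, hν⟩ := IsCyclic.exists_generator (α := Fˣ)
  refine ⟨ν, ?_⟩
  rw [orderOf_eq_card_of_forall_mem_zpowers hν, Nat.card_eq_fintype_card, Fintype.card_units]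

theorem exists_pow_eq {ν : Fˣ} (hν : orderOf ν = Fintype.card F - 1) {b : F} (hb : b ≠ 0) :
    ∃ i : ℕ, b = (ν : F) ^ i := by
  classical
  have htop : Subgroup.zpowers ν = ⊤ :=
    Subgroup.eq_top_of_card_eq _ (by
      rw [Nat.card_zpowers, hν, Nat.card_eq_fintype_card, Fintype.card_units])
  have : Units.mk0 b hb ∈ Subgroup.zpowers ν := by rw [htop]; trivial
  obtain ⟨i, hi⟩ := mem_zpowers_iff_mem_range_orderOf.mp this |> Finset.mem_image.mp
  exact ⟨i, by rw [← Units.val_pow_eq_pow_val, hi.2]; rfl⟩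

/-- Dichotomy: a subfield is everything or has at most `√q` elements. -/
theorem surjective_or_small (l : F) :
    Function.Surjective ⇑(Polynomial.aeval l : (ZMod p)[X] →ₐ[ZMod p] F) ∨
      ∃ s a : ℕ, s = p ^ a ∧ 2 ≤ s ∧ s * s ≤ Fintype.card F ∧ (∀ x : F, x ∈ (ZMod p)⟮l⟯ → x ^ s = x) := by
  classical
  set K := (ZMod p)⟮l⟯ with hK
  by_cases htop : K = ⊤
  · left
    intro y
    have hy : y ∈ K.toSubalgebra := by rw [htop]; trivial
    rw [hK, IntermediateField.adjoin_simple_toSubalgebra_of_isAlgebraic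
      (Algebra.IsAlgebraic.isAlgebraic l), Algebra.adjoin_singleton_eq_range_aeval] at hy
    exact hy
  · right
    have : Fintype K := Fintype.ofFinite K
    obtain ⟨a, ha⟩ : ∃ a : ℕ, Fintype.card K = p ^ a :=
      ⟨_, Module.card_eq_pow_finrank (K := ZMod p) (V := K) |>.trans (by rw [ZMod.card])⟩
    refine ⟨p ^ a, a, rfl, ha ▸ Fintype.one_lt_card (α := K), ?_, fun x hx => ?_⟩
    · have hr : 2 ≤ Module.finrank K F := by
        have h0 : 0 < Module.finrank K F := Module.finrank_pos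
        by_contra h2
        have h1 : Module.finrank K F = 1 := by omega
        exact htop (IntermediateField.finrank_eq_one_iff_eq_top.mp h1)
      rw [Module.card_eq_pow_finrank (K := K) (V := F), ← sq, ha]
      exact Nat.pow_le_pow_right (ha ▸ Fintype.card_pos) hr
    · rw [← ha]
      exact congrArg Subtype.val (FiniteField.pow_card (⟨x, hx⟩ : K))

theorem surjective_sq {ν : Fˣ} (hν : orderOf ν = Fintype.card F - 1) :
    Function.Surjective ⇑(Polynomial.aeval ((ν : F) ^ 2) : (ZMod p)[X] →ₐ[ZMod p] F) := by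
  rcases surjective_or_small (p := p) ((ν : F) ^ 2) with h | ⟨s, a, -, hs, hsq, hfix⟩
  · exact h
  · exfalso
    have h1 := hfix _ (IntermediateField.mem_adjoin_simple_self _ _)
    have h2 : ν ^ (2 * (s - 1)) = 1 := by
      apply Units.ext
      have hne : (ν : F) ^ 2 ≠ 0 := pow_ne_zero _ ν.ne_zero
      have : ((ν : F) ^ 2) ^ (s - 1) * (ν : F) ^ 2 = 1 * (ν : F) ^ 2 := by
        rw [← pow_succ, Nat.sub_add_cancel (by omega : 1 ≤ s), h1, one_mul]
      rw [Units.val_pow_eq_pow_val, pow_mul, mul_right_cancel₀ hne this, Units.val_one]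
    have h3 := Nat.le_of_dvd (by omega) (hν ▸ orderOf_dvd_of_pow_eq_one h2)
    nlinarith [Nat.sub_add_cancel (by omega : 1 ≤ s), Nat.sub_add_cancel (Fintype.card_pos (α := F))]

/-- For odd `q ∉ {3, 5, 9}` there is a square `l` with `1 + l` a square and `F = F_p[l]`. -/
theorem exists_step {ν : Fˣ} (hν : orderOf ν = Fintype.card F - 1) (hp2 : p ≠ 2)
    (h7 : 7 ≤ Fintype.card F) (h9 : Fintype.card F ≠ 9) :
    ∃ k m : ℕ, 1 + ((ν : F) ^ 2) ^ k = ((ν : F) ^ 2) ^ m ∧
      Function.Surjective ⇑(Polynomial.aeval (((ν : F) ^ 2) ^ k) : (ZMod p)[X] →ₐ[ZMod p] F) := by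
  have hchar : CharP F p := charP_of_injective_algebraMap (algebraMap (ZMod p) F).injective p
  have h2 : (2 : F) ≠ 0 := by
    intro h
    have : ((2 : ℕ) : F) = 0 := by exact_mod_cast h
    rw [CharP.cast_eq_zero_iff F p] at this
    exact hp2 ((Nat.prime_dvd_prime_iff_eq (Fact.out) Nat.prime_two).mp this)
  have ht : (ν : F) ≠ 0 := ν.ne_zero
  have ht4 : (ν : F) ^ 4 ≠ 1 := by
    intro h
    have := Nat.le_of_dvd (by norm_num) (hν ▸ orderOf_dvd_of_pow_eq_one (x := ν) (n := 4)
      (Units.ext (by simpa using h)))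
    omega
  set y : F := ((ν : F) - (ν : F)⁻¹) / 2 with hy
  set z : F := ((ν : F) + (ν : F)⁻¹) / 2 with hz
  have hyz : 1 + y ^ 2 = z ^ 2 := by rw [hy, hz]; field_simp; ring
  have hy0 : y ≠ 0 := by
    intro h
    rw [hy, div_eq_zero_iff, or_iff_left h2, sub_eq_zero] at h
    apply ht4
    have : (ν : F) * ν = 1 := by nth_rewrite 2 [h]; exact mul_inv_cancel₀ ht
    linear_combination ((ν : F) * ν + 1) * this
  have hz0 : z ≠ 0 := by
    intro h
    rw [hz, div_eq_zero_iff, or_iff_left h2, add_eq_zero_iff_eq_neg] at h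
    apply ht4
    have : (ν : F) * ν = -1 := by nth_rewrite 2 [h]; rw [mul_neg, mul_inv_cancel₀ ht]
    linear_combination ((ν : F) * ν - 1) * this
  obtain ⟨k, hk⟩ := exists_pow_eq hν hy0
  obtain ⟨m, hm⟩ := exists_pow_eq hν hz0
  refine ⟨k, m, ?_, ?_⟩
  · rw [← pow_mul, ← pow_mul, mul_comm 2 k, mul_comm 2 m, pow_mul, pow_mul, ← hk, ← hm, hyz]
  rw [← pow_mul, mul_comm 2 k, pow_mul, ← hk]
  rcases surjective_or_small (p := p) (y ^ 2) with h | ⟨s, a, hsa, hs, hsq, hfix⟩
  · exact h
  exfalso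
  set T : F := (ν : F) ^ 2 with hT
  have hT0 : T ≠ 0 := pow_ne_zero _ ht
  set c : F := 4 * y ^ 2 + 2 with hc
  have hroot : T ^ 2 + 1 = c * T := by
    rw [hc, hT, hy]; field_simp; ring
  have hcfix : c ^ s = c := by
    apply hfix
    have hl := IntermediateField.mem_adjoin_simple_self (ZMod p) (y ^ 2)
    exact add_mem (mul_mem (ofNat_mem _ 4) hl) (ofNat_mem _ 2)
  have hroot' : (T ^ s) ^ 2 + 1 = c * T ^ s := by
    have := congrArg (fun x => x ^ s) hroot
    rw [hsa, add_pow_char_pow, ← hsa, one_pow, mul_pow, hcfix, ← pow_mul, mul_comm 2 s,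
      pow_mul] at this
    exact this
  have hfac : (T ^ s - T) * (T ^ s * T - 1) = 0 := by linear_combination T * hroot' - T ^ s * hroot
  have hbound : ∀ n : ℕ, 0 < n → T ^ n = 1 → Fintype.card F - 1 ≤ 2 * n := by
    intro n hn h
    refine Nat.le_of_dvd (by omega) (hν ▸ orderOf_dvd_of_pow_eq_one (Units.ext ?_))
    simpa [pow_mul, hT] using h
  have hqs := Nat.sub_add_cancel (Fintype.card_pos (α := F))
  rcases mul_eq_zero.mp hfac with h | h
  · have : T ^ (s - 1) = 1 := by
      have e : T ^ (s - 1) * T = 1 * T := by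
        rw [← pow_succ, Nat.sub_add_cancel (by omega : 1 ≤ s), one_mul]
        exact sub_eq_zero.mp h
      exact mul_right_cancel₀ hT0 e
    have := hbound _ (by omega) this
    nlinarith [Nat.sub_add_cancel (by omega : 1 ≤ s)]
  · have : T ^ (s + 1) = 1 := by rw [pow_succ]; exact sub_eq_zero.mp h
    have hb := hbound _ (by omega) this
    have hs3 : s ≤ 3 := by nlinarith
    have hs' : s ≠ 2 := by
      rintro rfl
      rcases Nat.eq_zero_or_pos a with rfl | ha
      · simp at hsa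
      · have : p ∣ 2 := hsa ▸ dvd_pow_self p ha.ne'
        exact hp2 ((Nat.prime_dvd_prime_iff_eq (Fact.out) Nat.prime_two).mp this)
    have : s = 3 := by omega
    subst this
    omega

end Cfsg.Agent.SL2Pres
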