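import Mathlib
import Cfsg.Agent.SL2Pres.Abstract
import Cfsg.Agent.SL2Pres.Field

/-!
# The generators of SL2
-/

set_option autoImplicit false

namespace Cfsg.Agent.SL2Pres

open Polynomial Matrix
open scoped MatrixGroups

variable {F : Type*} [Field F]

/-- Upper unitriangular element. -/
def uM (b : F) : SL(2, F) := ⟨!![1, b; 0, 1], by simp [Matrix.det_fin_two]⟩

/-- Diagonal element. -/
def dM (a : Fˣ) : SL(2, F) := ⟨!![(a : F), 0; 0, (a⁻¹ : Fˣ)], by simp [Matrix.det_fin_two]⟩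

/-- The Weyl element. -/
def wM : SL(2, F) := ⟨!![0, 1; -1, 0], by simp [Matrix.det_fin_two]⟩

theorem uM_coe (b : F) : (uM b).1 = !![1, b; 0, 1] := rfl

theorem dM_coe (a : Fˣ) : (dM a).1 = !![(a : F), 0; 0, ((a⁻¹ : Fˣ) : F)] := rfl

theorem wM_coe : (wM : SL(2, F)).1 = !![0, 1; -1, 0] := rfl

theorem uM_add (a b : F) : uM (a + b) = uM a * uM b := by
  ext i j; fin_cases i <;> fin_cases j <;> simp [Matrix.SpecialLinearGroup.coe_mul, Matrix.mul_apply, Fin.sum_univ_two, uM_coe, add_comm]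

theorem uM_zero : uM (0 : F) = 1 := by
  ext i j; fin_cases i <;> fin_cases j <;> simp [Matrix.SpecialLinearGroup.coe_mul, Matrix.mul_apply, Fin.sum_univ_two, uM_coe]

theorem dM_mul (a b : Fˣ) : dM (a * b) = dM a * dM b := by
  ext i j; fin_cases i <;> fin_cases j <;> simp [Matrix.SpecialLinearGroup.coe_mul, Matrix.mul_apply, Fin.sum_univ_two, dM_coe, mul_comm]

/-- `dM` as a homomorphism. -/
def dHom : Fˣ →* SL(2, F) where
  toFun := dM
  map_one' := by ext i j; fin_cases i <;> fin_cases j <;> simp [Matrix.SpecialLinearGroup.coe_mul, Matrix.mul_apply, Fin.sum_univ_two, dM_coe]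
  map_mul' := dM_mul

theorem dM_pow (a : Fˣ) (k : ℕ) : dM (a ^ k) = dM a ^ k := map_pow dHom a k

theorem dM_conj_uM (a : Fˣ) (b : F) : dM a * uM b * (dM a)⁻¹ = uM ((a : F) ^ 2 * b) := by
  rw [mul_inv_eq_iff_eq_mul]
  ext i j; fin_cases i <;> fin_cases j <;> simp [Matrix.SpecialLinearGroup.coe_mul, Matrix.mul_apply, Fin.sum_univ_two, dM_coe, uM_coe]
  field_simp

theorem wM_conj_dM (a : Fˣ) : wM * dM a * (wM : SL(2, F))⁻¹ = (dM a)⁻¹ := by
  rw [show (dM a)⁻¹ = dM a⁻¹ from (map_inv dHom a).symm, mul_inv_eq_iff_eq_mul]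
  ext i j; fin_cases i <;> fin_cases j <;> simp [Matrix.SpecialLinearGroup.coe_mul, Matrix.mul_apply, Fin.sum_univ_two, dM_coe, wM_coe]

theorem wM_sq : (wM : SL(2, F)) * wM = dM (-1) := by
  ext i j; fin_cases i <;> fin_cases j <;> simp [Matrix.SpecialLinearGroup.coe_mul, Matrix.mul_apply, Fin.sum_univ_two, dM_coe, wM_coe]

theorem wM_uM_wM {ε : F} (hε : ε ≠ 0) (d : Fˣ) (hd : (d : F) = -ε⁻¹) :
    wM * uM ε * wM = uM (d : F) * dM d * wM * uM (d : F) := by
  ext i j; fin_cases i <;> fin_cases j <;> simp [Matrix.SpecialLinearGroup.coe_mul, Matrix.mul_apply, Fin.sum_univ_two, dM_coe, wM_coe, uM_coe, hd] <;> field_simp <;> ring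

theorem uM_nsmul (c : ℕ) (b : F) : uM b ^ c = uM (c • b) := by
  induction c with
  | zero => simp [uM_zero]
  | succ c ih => rw [pow_succ, ih, succ_nsmul, uM_add]

/-- Evaluating `pword` through an additive parametrisation. -/
theorem pword_of_param {P : Type*} [Group P] {p : ℕ} [Fact p.Prime] [Algebra (ZMod p) F]
    (φ : F → P) (h0 : φ 0 = 1) (hadd : ∀ a b, φ (a + b) = φ a * φ b) {x : P} {l : F}
    (hx : ∀ b, x * φ b * x⁻¹ = φ (l * b)) (g : (ZMod p)[X]) :
    pword x (φ 1) g = φ (aeval l g) := by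
  have hxi : ∀ (i : ℕ) b, x ^ i * φ b * (x ^ i)⁻¹ = φ (l ^ i * b) := by
    intro i
    induction i with
    | zero => simp
    | succ i ih =>
      intro b
      calc x ^ (i + 1) * φ b * (x ^ (i + 1))⁻¹ = x ^ i * (x * φ b * x⁻¹) * (x ^ i)⁻¹ := by group
        _ = _ := by rw [hx, ih, pow_succ, mul_assoc]
  have hn : ∀ (c : ℕ), φ 1 ^ c = φ (c : F) := by
    intro c
    induction c with
    | zero => simp [h0]
    | succ c ih => rw [pow_succ, ih, Nat.cast_succ, hadd]
  have hterm : ∀ i, x ^ i * φ 1 ^ (g.coeff i).val * (x ^ i)⁻¹ = φ (g.coeff i • l ^ i) := by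
    intro i
    rw [hn, hxi, Algebra.smul_def, mul_comm]
    congr 2
    conv_rhs => rw [← ZMod.natCast_rightInverse (g.coeff i), map_natCast]
  rw [aeval_eq_sum_range, pword]
  simp only [hterm]
  generalize g.natDegree + 1 = n
  induction n with
  | zero => simp [h0]
  | succ n ih => simp [List.range_succ, Finset.sum_range_succ, ih, hadd]

variable [Fintype F]

theorem pword_dM {p : ℕ} [Fact p.Prime] [Algebra (ZMod p) F] (a : Fˣ) (g : (ZMod p)[X]) :
    pword (dM a) (uM 1) g = uM (aeval ((a : F) ^ 2) g) :=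
  pword_of_param uM uM_zero uM_add (dM_conj_uM a) g

theorem sq_eq_pow {ν : Fˣ} (hν : orderOf ν = Fintype.card F - 1) {c : F} (hc : c ≠ 0) :
    ∃ i : ℕ, c ^ 2 = ((ν : F) ^ 2) ^ i := by
  obtain ⟨i, rfl⟩ := exists_pow_eq hν hc
  exact ⟨i, by rw [← pow_mul, ← pow_mul, mul_comm]⟩

theorem gens_closure {ν : Fˣ} (hν : orderOf ν = Fintype.card F - 1) :
    Subgroup.closure ({uM 1, dM ν, wM} : Set SL(2, F)) = ⊤ := by
  set K := Subgroup.closure ({uM 1, dM ν, wM} : Set SL(2, F))
  have hu : uM 1 ∈ K := Subgroup.subset_closure (by simp)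
  have hd : dM ν ∈ K := Subgroup.subset_closure (by simp)
  have hw : wM ∈ K := Subgroup.subset_closure (by simp)
  have hsq : ∀ c : F, uM (c ^ 2) ∈ K := by
    intro c
    rcases eq_or_ne c 0 with rfl | hc
    · simp [uM_zero]
    obtain ⟨i, hi⟩ := sq_eq_pow hν hc
    have := dM_conj_uM (ν ^ i) 1
    rw [mul_one, Units.val_pow_eq_pow_val, ← pow_mul, mul_comm i 2, pow_mul, ← hi] at this
    rw [← this, dM_pow]
    exact mul_mem (mul_mem (pow_mem hd i) hu) (inv_mem (pow_mem hd i))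
  have hall : ∀ b : F, uM b ∈ K := by
    intro b
    obtain ⟨x, y, hxy⟩ : ∃ x y : F, x ^ 2 + y ^ 2 = b := by
      classical
      rcases eq_or_ne (ringChar F) 2 with h2 | h2
      · obtain ⟨x, hx⟩ := isSquare_iff_exists_sq _ |>.mp (FiniteField.isSquare_of_char_two h2 b)
        exact ⟨x, 0, by simp [hx]⟩
      · obtain ⟨x, y, h⟩ := FiniteField.exists_root_sum_quadratic (R := F) (f := X ^ 2)
          (g := X ^ 2 - C b) (by simp) (by rw [degree_X_pow_sub_C (by norm_num)]; rfl)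
          (FiniteField.odd_card_of_char_ne_two h2)
        refine ⟨x, y, ?_⟩
        simp at h
        linear_combination h
    rw [← hxy, uM_add]
    exact mul_mem (hsq x) (hsq y)
  have hdall : ∀ a : Fˣ, dM a ∈ K := by
    intro a
    obtain ⟨i, hi⟩ := exists_pow_eq hν a.ne_zero
    rw [show a = ν ^ i from Units.ext (by simpa using hi), dM_pow]
    exact pow_mem hd i
  rw [eq_top_iff]
  intro M _
  have hdet : M.1 0 0 * M.1 1 1 - M.1 0 1 * M.1 1 0 = 1 := by rw [← Matrix.det_fin_two]; exact M.2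
  by_cases hc : M.1 1 0 = 0
  · rw [hc, mul_zero, sub_zero] at hdet
    have ha : M.1 0 0 ≠ 0 := left_ne_zero_of_mul_eq_one hdet
    have : M = dM (Units.mk0 _ ha) * uM (M.1 0 1 / M.1 0 0) := by
      ext i j; fin_cases i <;> fin_cases j <;> simp [Matrix.SpecialLinearGroup.coe_mul, Matrix.mul_apply, Fin.sum_univ_two, dM_coe, uM_coe, hc, ha] <;> field_simp
      linear_combination hdet
    rw [this]
    exact mul_mem (hdall _) (hall _)
  · have : M = uM (M.1 0 0 / M.1 1 0) * dM (Units.mk0 _ (inv_ne_zero (neg_ne_zero.mpr hc))) * wM *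
        uM (M.1 1 1 / M.1 1 0) := by
      ext i j; fin_cases i <;> fin_cases j <;> simp [Matrix.SpecialLinearGroup.coe_mul, Matrix.mul_apply, Fin.sum_univ_two, dM_coe, uM_coe, wM_coe, hc] <;> field_simp
      linear_combination -hdet
    rw [this]
    exact mul_mem (mul_mem (mul_mem (hall _) (hdall _)) hw) (hall _)

end Cfsg.Agent.SL2Pres
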