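import Mathlib
import Cfsg.Agent.SL2Pres.Matrices
import Cfsg.Agent.Classical.Linear2

/-!
# Short presentations of SL2 and PSL2
-/

set_option autoImplicit false

namespace Cfsg.Agent.SL2Pres

open Polynomial Matrix
open scoped MatrixGroups

/-- Relations on three generators which cut out the group `T`. -/
theorem pres_iso {T : Type*} [Group T] [Finite T] (L : List (FreeGroup (Fin 3))) (n : ℕ)
    (hn : L.length ≤ n) (f : Fin 3 → T) (hgen : Subgroup.closure (Set.range f) = ⊤)
    (hrel : ∀ r ∈ L, FreeGroup.lift f r = 1)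
    (hb : ∀ (P : Type) [Group P] (ψ : FreeGroup (Fin 3) →* P), Function.Surjective ψ →
      (∀ r ∈ L, ψ r = 1) → Finite P ∧ Nat.card P ≤ Nat.card T) :
    ∃ rels : Finset (FreeGroup (Fin 3)), rels.card ≤ n ∧
      Nonempty (PresentedGroup (↑rels : Set (FreeGroup (Fin 3))) ≃* T) := by
  classical
  refine ⟨L.toFinset, (List.toFinset_card_le L).trans hn, ?_⟩
  obtain ⟨hfin, hle⟩ := hb (PresentedGroup (↑L.toFinset : Set (FreeGroup (Fin 3))))
    (PresentedGroup.mk _) (PresentedGroup.mk_surjective _)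
    (fun r hr => PresentedGroup.one_of_mem (by simpa using hr))
  let χ := PresentedGroup.toGroup (f := f) (rels := (↑L.toFinset : Set (FreeGroup (Fin 3))))
    (fun r hr => hrel r (by simpa using hr))
  have hsurj : Function.Surjective χ := by
    rw [← MonoidHom.range_eq_top, eq_top_iff, ← hgen, Subgroup.closure_le]
    rintro _ ⟨i, rfl⟩
    exact ⟨PresentedGroup.of i, PresentedGroup.toGroup.of _⟩
  exact ⟨MulEquiv.ofBijective χ ((Function.Surjective.bijective_of_nat_card_le hsurj hle))⟩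

theorem closure_gens {P : Type*} [Group P] {u h w : P} (ψ : FreeGroup (Fin 3) →* P)
    (hψ : Function.Surjective ψ) (h0 : ψ (FreeGroup.of 0) = u) (h1 : ψ (FreeGroup.of 1) = h)
    (h2 : ψ (FreeGroup.of 2) = w) : Subgroup.closure ({u, h, w} : Set P) = ⊤ := by
  rw [eq_top_iff, ← MonoidHom.range_eq_top.mpr hψ, MonoidHom.range_eq_map,
    ← FreeGroup.closure_range_of, MonoidHom.map_closure]
  apply Subgroup.closure_mono
  rintro _ ⟨_, ⟨i, rfl⟩, rfl⟩
  fin_cases i <;> simp [h0, h1, h2]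

variable {p : ℕ} [Fact p.Prime] {F : Type*} [Field F] [Fintype F] [Algebra (ZMod p) F]

/-- The group-theoretic core: the relations imply the order bound. -/
theorem core_bound {P : Type*} [Group P] {ν : Fˣ} (hν : orderOf ν = Fintype.card F - 1)
    (reps : List F) (hreps : ∀ b : F, b ≠ 0 → ∃ k : ℕ, ∃ ε ∈ reps, b = ((ν : F) ^ 2) ^ k * ε)
    {u h w : P} (hgen : Subgroup.closure ({u, h, w} : Set P) = ⊤) (k : ℕ)
    (Pg : F → (ZMod p)[X]) (hPg : ∀ b, aeval (((ν : F) ^ 2) ^ k) (Pg b) = b)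
    (hu : u ^ p = 1) (hc : ∀ i j, Commute (cj (h ^ k) u i) (cj (h ^ k) u j))
    (hf : pword (h ^ k) u (minpoly (ZMod p) (((ν : F) ^ 2) ^ k)) = 1)
    (g₀ : (ZMod p)[X]) (hg₀ : aeval (((ν : F) ^ 2) ^ k) g₀ = (ν : F) ^ 2)
    (hhu : h * u * h⁻¹ = pword (h ^ k) u g₀) (N : ℕ) (hN : 0 < N) (hh : h ^ N = 1)
    (hw : w * h * w⁻¹ = h⁻¹) (e : ℕ) (hw2 : w * w = h ^ e)
    (hrep : ∀ ε ∈ reps, ∃ (d : F) (j : ℕ), w * pword (h ^ k) u (Pg ε) * w =
      pword (h ^ k) u (Pg d) * h ^ j * w * pword (h ^ k) u (Pg d)) :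
    Finite P ∧ Nat.card P ≤ Fintype.card F * N * (Fintype.card F + 1) := by
  obtain ⟨φ, h0, h1, hadd, hconj⟩ := exists_param (F := F) hu hc (fun b => ⟨Pg b, hPg b⟩) hf g₀ hg₀
    (Commute.self_pow h k) hhu
  have hx : ∀ (i : ℕ) b, h ^ i * φ b * (h ^ i)⁻¹ = φ (((ν : F) ^ 2) ^ i * b) := by
    intro i
    induction i with
    | zero => simp
    | succ i ih =>
      intro b
      calc h ^ (i + 1) * φ b * (h ^ (i + 1))⁻¹ = h ^ i * (h * φ b * h⁻¹) * (h ^ i)⁻¹ := by group
        _ = _ := by rw [hconj, ih, pow_succ ((ν : F) ^ 2) i, mul_assoc]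
  have hpw : ∀ b, pword (h ^ k) u (Pg b) = φ b := by
    intro b
    rw [← h1, pword_of_param φ h0 hadd (hx k), hPg]
  refine card_le φ h w N ((ν : F) ^ 2) hN (pow_ne_zero _ ν.ne_zero) h0 hadd hconj hh hw e hw2
    (fun b hb => ?_) (by rw [h1]; exact hgen)
  obtain ⟨i, ε, hε, rfl⟩ := hreps b hb
  obtain ⟨d, j, hdj⟩ := hrep ε hε
  exact ⟨i, ε, rfl, d, d, j, by simpa only [hpw] using hdj⟩

omit [Fact p.Prime] [Algebra (ZMod p) F] in
theorem reps_odd {ν : Fˣ} (hν : orderOf ν = Fintype.card F - 1) :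
    ∀ b : F, b ≠ 0 → ∃ k : ℕ, ∃ ε ∈ [1, (ν : F)], b = ((ν : F) ^ 2) ^ k * ε := by
  intro b hb
  obtain ⟨i, rfl⟩ := exists_pow_eq hν hb
  rcases Nat.even_or_odd' i with ⟨k, rfl | rfl⟩
  · exact ⟨k, 1, by simp, by rw [mul_one, pow_mul]⟩
  · exact ⟨k, ν, by simp, by rw [pow_succ, pow_mul]⟩

theorem commute_all_of_pair {P : Type*} [Group P] {x u : P} (hu : u ^ p = 1)
    (h1 : Commute u (cj x u 1)) (g : (ZMod p)[X]) (hg : g.Monic) (hdeg : g.natDegree ≤ 2)
    (hdeg1 : 1 ≤ g.natDegree) (hf : pword x u g = 1) (i j : ℕ) :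
    Commute (cj x u i) (cj x u j) := by
  set A := Subgroup.closure ({u, cj x u 1} : Set P)
  have hu0 : u ∈ A := Subgroup.subset_closure (by simp)
  have hu1 : cj x u 1 ∈ A := Subgroup.subset_closure (by simp)
  have hlast : cj x u g.natDegree ∈
      Subgroup.closure ((cj x u) '' {i | i < g.natDegree}) := by
    rw [pword, List.range_succ, List.map_append, List.prod_append] at hf
    simp only [List.map_cons, List.map_nil, List.prod_cons, List.prod_nil, mul_one] at hf
    rw [hg.coeff_natDegree, ZMod.val_one, pow_one] at hf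
    rw [cj, eq_inv_of_mul_eq_one_right hf]
    refine inv_mem (list_prod_mem fun z hz => ?_)
    obtain ⟨t, ht, rfl⟩ := List.mem_map.mp hz
    rw [← conj_pow]
    exact pow_mem (Subgroup.subset_closure (Set.mem_image_of_mem (cj x u)
      (show t ∈ {i | i < g.natDegree} from List.mem_range.mp ht))) _
  have h2 : cj x u 2 ∈ A := by
    rcases (show g.natDegree = 1 ∨ g.natDegree = 2 by omega) with hd | hd
    · rw [hd] at hlast
      have hmem : cj x u 1 ∈ Subgroup.zpowers u := by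
        refine (Subgroup.closure_le _).mpr ?_ hlast
        rintro _ ⟨t, ht, rfl⟩
        obtain rfl : t = 0 := by simp at ht; omega
        rw [cj_zero]; exact Subgroup.mem_zpowers u
      obtain ⟨m, hm⟩ := Subgroup.mem_zpowers_iff.mp hmem
      rw [cj_succ, ← hm, map_zpow, show MulAut.conj x u = cj x u 1 by simp [cj]]
      exact zpow_mem hu1 m
    · rw [hd] at hlast
      refine (Subgroup.closure_le _).mpr ?_ hlast
      rintro _ ⟨t, ht, rfl⟩
      simp at ht
      rcases (show t = 0 ∨ t = 1 by omega) with rfl | rfl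
      · rw [cj_zero]; exact hu0
      · exact hu1
  have hstab : A ≤ A.comap (MulAut.conj x).toMonoidHom := by
    rw [Subgroup.closure_le]
    intro z hz
    rcases hz with rfl | hz
    · show MulAut.conj x z ∈ A
      rw [show MulAut.conj x z = cj x z 1 by simp [cj]]
      exact hu1
    · rw [Set.mem_singleton_iff] at hz
      show MulAut.conj x z ∈ A
      rw [hz, ← cj_succ]
      exact h2
  have hall : ∀ m, cj x u m ∈ A := by
    intro m
    induction m with
    | zero => rw [cj_zero]; exact hu0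
    | succ m ih => rw [cj_succ]; exact hstab ih
  have hA : IsMulCommutative A := Subgroup.isMulCommutative_closure (by
    rintro a (rfl | rfl) b (rfl | rfl)
    · rfl
    · exact h1.eq
    · exact h1.eq.symm
    · rfl)
  exact congrArg Subtype.val (hA.is_comm.comm (⟨_, hall i⟩ : A) ⟨_, hall j⟩)

theorem card_target : Nat.card SL(2, F) = Fintype.card F * (Fintype.card F - 1) * (Fintype.card F + 1) := by
  rw [Cfsg.Agent.Classical.card_sl2]
  have hq := Fintype.card_pos (α := F)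
  obtain ⟨m, hm⟩ : ∃ m, Fintype.card F = m + 1 := ⟨_, (Nat.sub_add_cancel hq).symm⟩
  rw [hm]
  simp only [Nat.add_sub_cancel]
  rw [show (m + 1) ^ 2 = m * (m + 2) + 1 by ring, Nat.add_sub_cancel]
  ring

/-- Odd case; `psl` selects the quotient by `±1`. -/
theorem odd_case {T : Type*} [Group T] [Finite T] (hp2 : p ≠ 2) {ν : Fˣ}
    (hν : orderOf ν = Fintype.card F - 1) (π : SL(2, F) →* T) (hπ : Function.Surjective π)
    (N e : ℕ) (hN0 : 0 < N) (hN : π (dM ν) ^ N = 1) (he : π (dM ν) ^ e = π (dM (-1)))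
    (hsl : N = Fintype.card F - 1 ∧ 2 * e = N ∨ 2 * N = Fintype.card F - 1 ∧ e = 0)
    (hcard : Fintype.card F * N * (Fintype.card F + 1) ≤ Nat.card T) :
    ∃ rels : Finset (FreeGroup (Fin 3)), rels.card ≤ 9 ∧
      Nonempty (PresentedGroup (↑rels : Set (FreeGroup (Fin 3))) ≃* T) := by
  classical
  have hodd : Odd (Fintype.card F) := by
    have hchar : CharP F p := charP_of_injective_algebraMap (algebraMap (ZMod p) F).injective p
    exact Nat.odd_iff.mpr (FiniteField.odd_card_of_char_ne_two (by rw [ringChar.eq F p]; exact hp2))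
  set μ : F := (ν : F) ^ 2 with hμ
  set U : FreeGroup (Fin 3) := FreeGroup.of 0 with hU
  set H : FreeGroup (Fin 3) := FreeGroup.of 1 with hH
  set W : FreeGroup (Fin 3) := FreeGroup.of 2 with hW
  let f : Fin 3 → T := ![π (uM 1), π (dM ν), π wM]
  have fU : FreeGroup.lift f U = π (uM 1) := by simp [hU, f]
  have fH : FreeGroup.lift f H = π (dM ν) := by simp [hH, f]
  have fW : FreeGroup.lift f W = π wM := by simp [hW, f]
  have hgen : Subgroup.closure (Set.range f) = ⊤ := by
    have h := congrArg (Subgroup.map π) (gens_closure hν)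
    rw [MonoidHom.map_closure, ← MonoidHom.range_eq_map, MonoidHom.range_eq_top.mpr hπ] at h
    rw [← h]
    congr 1
    ext z
    simp [f, Set.mem_image, eq_comm]
    try tauto
  have hd : ∀ ε : F, ε ≠ 0 → ∃ j : ℕ, -ε⁻¹ = (ν : F) ^ j := fun ε hε =>
    exists_pow_eq hν (neg_ne_zero.mpr (inv_ne_zero hε))
  obtain ⟨j₁, hj₁⟩ := hd 1 one_ne_zero
  obtain ⟨j₂, hj₂⟩ := hd (ν : F) ν.ne_zero
  have hpwT : ∀ (k : ℕ) (g : (ZMod p)[X]),
      FreeGroup.lift f (pword (H ^ k) U g) = π (uM (aeval (μ ^ k) g)) := by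
    intro k g
    rw [map_pword, map_pow, fH, fU, ← map_pow, ← dM_pow, ← map_pword, pword_dM, hμ,
      Units.val_pow_eq_pow_val, ← pow_mul, ← pow_mul, mul_comm]
  have hconjT : ∀ (i : ℕ) (b : F), π (dM ν) ^ i * π (uM b) * (π (dM ν) ^ i)⁻¹ = π (uM (μ ^ i * b)) := by
    intro i b
    rw [← map_pow, ← map_inv, ← map_mul, ← map_mul, ← dM_pow, dM_conj_uM, hμ,
      Units.val_pow_eq_pow_val, ← pow_mul, ← pow_mul, mul_comm i]
  have heq : ∀ (k : ℕ) (ε : F) (j : ℕ) (Pg : F → (ZMod p)[X]), (∀ b, aeval (μ ^ k) (Pg b) = b) →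
      ε ≠ 0 → -ε⁻¹ = (ν : F) ^ j →
      FreeGroup.lift f (W * pword (H ^ k) U (Pg ε) * W *
        (pword (H ^ k) U (Pg (-ε⁻¹)) * H ^ j * W * pword (H ^ k) U (Pg (-ε⁻¹)))⁻¹) = 1 := by
    intro k ε j Pg hPg hε hj
    simp only [map_mul, map_inv, map_pow, fW, fH, hpwT, hPg]
    rw [mul_inv_eq_one, ← map_pow, ← map_mul, ← map_mul, ← map_mul, ← map_mul, ← map_mul, ← dM_pow]
    have hd' : ((ν ^ j : Fˣ) : F) = -ε⁻¹ := by rw [Units.val_pow_eq_pow_val, hj]
    rw [wM_uM_wM hε (ν ^ j) hd', hd']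
  by_cases hsmall : Fintype.card F = 3 ∨ Fintype.card F = 5 ∨ Fintype.card F = 9
  · -- small fields
    choose Pg hPg using surjective_sq (p := p) hν
    have hdeg : (minpoly (ZMod p) μ).natDegree ≤ 2 := by
      refine (minpoly.natDegree_le (A := ZMod p) μ).trans ?_
      have h9 : Fintype.card F ≤ 9 := by omega
      rw [Module.card_eq_pow_finrank (K := ZMod p) (V := F), ZMod.card] at h9
      by_contra h3
      have hp3 : 3 ≤ p := by
        have := (Fact.out : p.Prime).two_le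
        omega
      have := Nat.pow_le_pow_left hp3 (Module.finrank (ZMod p) F)
      have := Nat.pow_le_pow_right (show 0 < 3 by norm_num) (not_le.mp h3)
      omega
    refine pres_iso [U ^ p, U * (H * U * H⁻¹) * ((H * U * H⁻¹) * U)⁻¹,
      pword (H ^ 1) U (minpoly (ZMod p) μ), H ^ N, W * H * W⁻¹ * H, W * W * (H ^ e)⁻¹,
      W * pword (H ^ 1) U (Pg 1) * W *
        (pword (H ^ 1) U (Pg (-1⁻¹)) * H ^ j₁ * W * pword (H ^ 1) U (Pg (-1⁻¹)))⁻¹,
      W * pword (H ^ 1) U (Pg (ν : F)) * W *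
        (pword (H ^ 1) U (Pg (-(ν : F)⁻¹)) * H ^ j₂ * W * pword (H ^ 1) U (Pg (-(ν : F)⁻¹)))⁻¹]
      9 (by simp) f hgen ?_ ?_
    · intro r hr
      simp only [List.mem_cons, List.not_mem_nil, or_false] at hr
      rcases hr with rfl | rfl | rfl | rfl | rfl | rfl | rfl | rfl
      · rw [map_pow, fU, ← map_pow, uM_nsmul, nsmul_one, ← map_natCast (algebraMap (ZMod p) F) p,
          ZMod.natCast_self, map_zero, uM_zero, map_one]
      · simp only [map_mul, map_inv, fU, fH, mul_inv_eq_one]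
        have := hconjT 1 1
        rw [pow_one] at this
        rw [this, ← map_mul, ← map_mul, ← uM_add, ← uM_add, add_comm]
      · rw [hpwT, pow_one, minpoly.aeval, uM_zero, map_one]
      · rw [map_pow, fH, hN]
      · simp only [map_mul, map_inv, fW, fH]
        rw [← map_inv, ← map_mul, ← map_mul, wM_conj_dM, map_inv, inv_mul_cancel]
      · simp only [map_mul, map_inv, map_pow, fW, fH]
        rw [← map_mul, wM_sq, he, mul_inv_cancel]
      · exact heq 1 1 j₁ Pg (by simpa using hPg) one_ne_zero hj₁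
      · exact heq 1 _ j₂ Pg (by simpa using hPg) ν.ne_zero hj₂
    · intro P _ ψ hψ hr
      simp only [List.forall_mem_cons, map_mul, map_inv, map_pow, map_pword, mul_inv_eq_one] at hr
      obtain ⟨r1, r2, r3, r4, r5, r6, r7, r8, -⟩ := hr
      have hgenP := closure_gens ψ hψ rfl rfl rfl
      rw [← hU, ← hH, ← hW] at hgenP
      generalize ψ U = u at *
      generalize ψ H = h at *
      generalize ψ W = w at *
      have h1 : Commute u (cj (h ^ 1) u 1) := by simpa [cj, Commute, SemiconjBy] using r2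
      refine (core_bound hν [1, (ν : F)] (reps_odd hν) hgenP 1 Pg (by simpa using hPg) r1
        (commute_all_of_pair r1 h1 _ (minpoly.monic (Algebra.IsIntegral.isIntegral μ)) hdeg
          (minpoly.natDegree_pos (Algebra.IsIntegral.isIntegral μ)) r3)
        (by simpa only [hμ, pow_one] using r3) X (by simp) ?_ N hN0 r4 (eq_inv_of_mul_eq_one_left r5) e r6 ?_).imp
        id (fun hle => hle.trans hcard)
      · have hd1 : (X : (ZMod p)[X]).natDegree = 1 := natDegree_X
        simp [pword, hd1, List.range_succ, ZMod.val_one]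
      · intro ε hε
        simp only [List.mem_cons, List.not_mem_nil, or_false] at hε
        rcases hε with rfl | rfl
        · exact ⟨-1⁻¹, j₁, r7⟩
        · exact ⟨-(ν : F)⁻¹, j₂, r8⟩
  · -- general case
    have h7 : 7 ≤ Fintype.card F := by
      obtain ⟨t, ht⟩ := hodd
      have := Fintype.one_lt_card (α := F)
      omega
    obtain ⟨k, m, hkm, hsurj⟩ := exists_step (p := p) hν hp2 h7 (by omega)
    rw [← hμ] at hkm hsurj
    choose Pg hPg using hsurj
    -- `E = 0` for SL, `E = N` for PSL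
    obtain ⟨E, hE⟩ : ∃ E, (N = Fintype.card F - 1 ∧ 2 * e = N ∧ E = 0) ∨
        (2 * N = Fintype.card F - 1 ∧ e = 0 ∧ E = N) := by
      rcases hsl with ⟨a, b⟩ | ⟨a, b⟩
      · exact ⟨0, Or.inl ⟨a, b, rfl⟩⟩
      · exact ⟨N, Or.inr ⟨a, b, rfl⟩⟩
    refine pres_iso [U ^ p, U * (H ^ k * U * (H ^ k)⁻¹) * ((H ^ k * U * (H ^ k)⁻¹) * U)⁻¹,
      H ^ m * U * (H ^ m)⁻¹ * (U * (H ^ k * U * (H ^ k)⁻¹))⁻¹,
      pword (H ^ k) U (minpoly (ZMod p) (μ ^ k)) * (H ^ E)⁻¹,
      H * U * H⁻¹ * (pword (H ^ k) U (Pg μ))⁻¹,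
      W * H * W⁻¹ * H, W * W * (H ^ e)⁻¹,
      W * pword (H ^ k) U (Pg 1) * W *
        (pword (H ^ k) U (Pg (-1⁻¹)) * H ^ j₁ * W * pword (H ^ k) U (Pg (-1⁻¹)))⁻¹,
      W * pword (H ^ k) U (Pg (ν : F)) * W *
        (pword (H ^ k) U (Pg (-(ν : F)⁻¹)) * H ^ j₂ * W * pword (H ^ k) U (Pg (-(ν : F)⁻¹)))⁻¹]
      9 (by simp) f hgen ?_ ?_
    · intro r hr
      simp only [List.mem_cons, List.not_mem_nil, or_false] at hr
      rcases hr with rfl | rfl | rfl | rfl | rfl | rfl | rfl | rfl | rfl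
      · rw [map_pow, fU, ← map_pow, uM_nsmul, nsmul_one, ← map_natCast (algebraMap (ZMod p) F) p,
          ZMod.natCast_self, map_zero, uM_zero, map_one]
      · simp only [map_mul, map_inv, map_pow, fU, fH, mul_inv_eq_one]
        rw [hconjT, ← map_mul, ← map_mul, ← uM_add, ← uM_add, add_comm]
      · simp only [map_mul, map_inv, map_pow, fU, fH, mul_inv_eq_one]
        rw [hconjT, hconjT, ← map_mul, ← uM_add, mul_one, mul_one, hkm]
      · simp only [map_mul, map_inv, map_pow, hpwT, fH, minpoly.aeval, uM_zero, map_one, one_mul,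
          inv_eq_one]
        rcases hE with ⟨-, -, rfl⟩ | ⟨-, -, rfl⟩
        · simp
        · exact hN
      · simp only [map_mul, map_inv, fU, fH, hpwT, hPg, mul_inv_eq_one]
        simpa using hconjT 1 1
      · simp only [map_mul, map_inv, fW, fH]
        rw [← map_inv, ← map_mul, ← map_mul, wM_conj_dM, map_inv, inv_mul_cancel]
      · simp only [map_mul, map_inv, map_pow, fW, fH]
        rw [← map_mul, wM_sq, he, mul_inv_cancel]
      · exact heq k 1 j₁ Pg hPg one_ne_zero hj₁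
      · exact heq k _ j₂ Pg hPg ν.ne_zero hj₂
    · intro P _ ψ hψ hr
      simp only [List.forall_mem_cons, map_mul, map_inv, map_pow, map_pword, mul_inv_eq_one] at hr
      obtain ⟨r1, r2, r3, r4, r5, r6, r7, r8, r9, -⟩ := hr
      have hgenP := closure_gens ψ hψ rfl rfl rfl
      rw [← hU, ← hH, ← hW] at hgenP
      generalize ψ U = u at *
      generalize ψ H = h at *
      generalize ψ W = w at *
      have hc1 : h ^ k * u * (h ^ k)⁻¹ = cj (h ^ k) u 1 := by simp [cj]
      have hcom := commute_cj_all (h ^ k) u (commute_cj_of_step (h ^ k) u (y := h ^ m)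
        (by rw [← hc1]; exact r2) (by rw [← hc1]; exact r3) ((Commute.refl h).pow_pow k m))
      have hE1 : h ^ E = 1 := merged_trivial hcom (by rw [← hc1]; exact r3)
        ((Commute.refl h).pow_pow k m) _ r4 ((Commute.refl h).pow_pow E k)
        ((Commute.refl h).pow_pow E m)
      have hwh : w * h * w⁻¹ = h⁻¹ := eq_inv_of_mul_eq_one_left r6
      have hhN : h ^ N = 1 := by
        rcases hE with ⟨-, he2, -⟩ | ⟨-, -, rfl⟩
        · have a1 : MulAut.conj w (h ^ e) = (h ^ e)⁻¹ := by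
            rw [map_pow, MulAut.conj_apply, hwh, inv_pow]
          have a2 : MulAut.conj w (h ^ e) = h ^ e := by
            rw [MulAut.conj_apply, ← r7]; group
          rw [← he2, two_mul, pow_add]
          exact mul_eq_one_iff_eq_inv.mpr (a2.symm.trans a1)
        · exact hE1
      refine (core_bound hν [1, (ν : F)] (reps_odd hν) hgenP k Pg hPg r1 hcom
        (r4.trans hE1) (Pg μ) (hPg μ) r5 N hN0 hhN hwh e r7 ?_).imp id (fun hle => hle.trans hcard)
      intro ε hε
      simp only [List.mem_cons, List.not_mem_nil, or_false] at hε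
      rcases hε with rfl | rfl
      · exact ⟨-1⁻¹, j₁, r8⟩
      · exact ⟨-(ν : F)⁻¹, j₂, r9⟩

end Cfsg.Agent.SL2Pres
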