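import Mathlib
import Cfsg.Agent.SL2Pres.Presentations

/-!
# Five relations in characteristic 2
-/

set_option autoImplicit false

namespace Cfsg.Agent.SL2Pres

open Polynomial Matrix
open scoped MatrixGroups

variable {F : Type*} [Field F] [Fintype F] [Algebra (ZMod 2) F]

theorem two_eq_zero' : (2 : F) = 0 := by
  have : ((2 : ℕ) : F) = 0 := by
    rw [← map_natCast (algebraMap (ZMod 2) F) 2, ZMod.natCast_self, map_zero]
  exact_mod_cast this

theorem neg_eq' (b : F) : -b = b := by linear_combination (-b) * two_eq_zero' (F := F)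

theorem uw_cube :
    uM (1 : F) * wM * (uM (1 : F) * wM) * (uM (1 : F) * wM) = (1 : SL(2, F)) := by
  have hone : dM (1 : Fˣ) = 1 := map_one (dHom (F := F))
  have hw : (wM : SL(2, F)) * wM = 1 := by
    rw [wM_sq, show (-1 : Fˣ) = 1 from Units.ext (by simp [neg_eq']), hone]
  have hu : uM (1 : F) * uM 1 = 1 := by
    rw [← uM_add, one_add_one_eq_two, two_eq_zero', uM_zero]
  have e := wM_uM_wM (one_ne_zero : (1 : F) ≠ 0) 1 (by simp [neg_eq'])
  rw [hone, mul_one, Units.val_one] at e
  calc uM (1 : F) * wM * (uM (1 : F) * wM) * (uM (1 : F) * wM)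
      = uM (1 : F) * (wM * uM (1 : F) * wM) * (uM (1 : F) * wM) := by group
    _ = uM (1 : F) * (uM (1 : F) * wM * uM (1 : F)) * (uM (1 : F) * wM) := by rw [e]
    _ = (uM (1 : F) * uM (1 : F)) * wM * (uM (1 : F) * uM (1 : F)) * wM := by group
    _ = 1 := by rw [hu, one_mul, mul_one, hw]

omit [Field F] [Fintype F] [Algebra (ZMod 2) F] in
/-- The squaring trick: a Weyl element with central-looking square is an involution. -/
theorem weyl_sq_trivial {P : Type*} [Group P] {u w : P} (hu : u * u = 1)
    (huw : u * w * (u * w) * (u * w) = 1) (hz : Commute (w * w) u) (hz2 : (w * w) * (w * w) = 1) :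
    w * w = 1 := by
  have hzw : Commute (w * w) w := (Commute.refl w).mul_left (Commute.refl w)
  set z := w * w with hzdef
  have hui : u⁻¹ = u := inv_eq_of_mul_eq_one_right hu
  have h1 : u * w * u * w * u = w⁻¹ := by
    calc u * w * u * w * u = (u * w * (u * w) * (u * w)) * w⁻¹ := by group
      _ = w⁻¹ := by rw [huw, one_mul]
  -- J := u (w u w⁻¹) u is an involution
  have hJ2 : (u * (w * u * w⁻¹) * u) * (u * (w * u * w⁻¹) * u) = 1 := by
    calc (u * (w * u * w⁻¹) * u) * (u * (w * u * w⁻¹) * u)
        = u * w * u * w⁻¹ * (u * u) * w * u * w⁻¹ * u := by group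
      _ = u * w * u * w⁻¹ * 1 * w * u * w⁻¹ * u := by rw [hu]
      _ = u * w * (u * u) * w⁻¹ * u := by group
      _ = u * w * 1 * w⁻¹ * u := by rw [hu]
      _ = u * u := by group
      _ = 1 := hu
  have hJ : u * (w * u * w⁻¹) * u = w⁻¹ * z⁻¹ := by
    have e : w⁻¹ = w * z⁻¹ := by rw [hzdef]; group
    calc u * (w * u * w⁻¹) * u = u * w * u * w⁻¹ * u := by group
      _ = u * w * u * (w * z⁻¹) * u := by rw [← e]
      _ = u * w * u * w * (z⁻¹ * u) := by group
      _ = u * w * u * w * (u * z⁻¹) := by rw [hz.inv_left.eq]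
      _ = (u * w * u * w * u) * z⁻¹ := by group
      _ = _ := by rw [h1]
  rw [hJ] at hJ2
  have h3 : z * (z * z) = 1 := by
    have : (w⁻¹ * z⁻¹ * (w⁻¹ * z⁻¹))⁻¹ = 1 := by rw [hJ2, inv_one]
    rw [← this]
    calc z * (z * z) = z * (w * w) * z := by rw [← hzdef]; group
      _ = z * w * (w * z) := by group
      _ = z * w * (z * w) := by rw [hzw.eq]
      _ = _ := by group
  rw [hz2, mul_one] at h3
  exact h3

/-- Characteristic two, `q > 2`. -/
theorem even_case {T : Type*} [Group T] [Finite T] {ν : Fˣ}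
    (hν : orderOf ν = Fintype.card F - 1) (h4 : 2 < Fintype.card F)
    (π : SL(2, F) →* T) (hπ : Function.Surjective π)
    (hcard : Fintype.card F * (Fintype.card F - 1) * (Fintype.card F + 1) ≤ Nat.card T) :
    ∃ rels : Finset (FreeGroup (Fin 3)), rels.card ≤ 5 ∧
      Nonempty (PresentedGroup (↑rels : Set (FreeGroup (Fin 3))) ≃* T) := by
  classical
  have : Fact (Nat.Prime 2) := ⟨Nat.prime_two⟩
  set μ : F := (ν : F) ^ 2 with hμ
  set N := Fintype.card F - 1 with hNdef
  have hνN : ν ^ N = 1 := hν ▸ pow_orderOf_eq_one ν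
  have hsurj : Function.Surjective ⇑(Polynomial.aeval μ : (ZMod 2)[X] →ₐ[ZMod 2] F) :=
    surjective_sq hν
  have hchar : CharP F 2 := charP_of_injective_algebraMap (algebraMap (ZMod 2) F).injective 2
  have hsqrt : ∀ b : F, b ≠ 0 → ∃ i, b = μ ^ i := by
    intro b hb
    obtain ⟨c, rfl⟩ := isSquare_iff_exists_sq _ |>.mp
      (FiniteField.isSquare_of_char_two (ringChar.eq F 2) b)
    have hc : c ≠ 0 := fun h => hb (by rw [h]; simp)
    exact sq_eq_pow hν hc
  have hμ1 : (1 : F) + μ ≠ 0 := by
    intro h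
    have hμ1 : μ = 1 := by linear_combination h - two_eq_zero' (F := F)
    have h2 : ν ^ 2 = 1 := Units.ext (by rw [Units.val_pow_eq_pow_val, ← hμ, hμ1, Units.val_one])
    have := Nat.le_of_dvd (by norm_num) (hν ▸ orderOf_dvd_of_pow_eq_one h2)
    have := FiniteField.even_card_of_char_two (ringChar.eq F 2)
    omega
  obtain ⟨m, hm⟩ := hsqrt _ hμ1
  choose Pg hPg using hsurj
  set U : FreeGroup (Fin 3) := FreeGroup.of 0 with hU
  set H : FreeGroup (Fin 3) := FreeGroup.of 1 with hH
  set W : FreeGroup (Fin 3) := FreeGroup.of 2 with hW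
  let f : Fin 3 → T := ![π (uM 1), π (dM ν), π wM]
  have fU : FreeGroup.lift f U = π (uM 1) := by simp [hU, f]
  have fH : FreeGroup.lift f H = π (dM ν) := by simp [hH, f]
  have fW : FreeGroup.lift f W = π wM := by simp [hW, f]
  have hgen : Subgroup.closure (Set.range f) = ⊤ := by
    have h := congrArg (Subgroup.map π) (gens_closure hν)
    rw [MonoidHom.map_closure, ← MonoidHom.range_eq_map, MonoidHom.range_eq_top.mpr hπ] at h
    rw [← h]
    congr 1
    ext z
    simp [f, Set.mem_image, eq_comm]
    try tauto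
  have hone : dM (1 : Fˣ) = 1 := map_one (dHom (F := F))
  have hwsq : (wM : SL(2, F)) * wM = 1 := by
    rw [wM_sq, show (-1 : Fˣ) = 1 from Units.ext (by simp [neg_eq']), hone]
  refine pres_iso [U ^ 2, H ^ m * U * (H ^ m)⁻¹ * (U * (H * U * H⁻¹))⁻¹,
    pword H U (minpoly (ZMod 2) μ) * (W * W * H ^ N)⁻¹, W * H * W⁻¹ * H,
    U * W * (U * W) * (U * W)] 5 (by simp) f hgen ?_ ?_
  · intro r hr
    simp only [List.mem_cons, List.not_mem_nil, or_false] at hr
    rcases hr with rfl | rfl | rfl | rfl | rfl
    · rw [map_pow, fU, ← map_pow, uM_nsmul, nsmul_one, Nat.cast_ofNat, two_eq_zero', uM_zero, map_one]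
    · simp only [map_mul, map_inv, map_pow, fU, fH, mul_inv_eq_one]
      simp only [← map_pow, ← map_inv, ← map_mul, ← dM_pow, dM_conj_uM, ← uM_add,
        Units.val_pow_eq_pow_val, mul_one]
      congr 2
      rw [← hμ, hm, hμ, ← pow_mul, ← pow_mul, mul_comm]
    · simp only [map_mul, map_inv, map_pow, map_pword, fU, fH, fW]
      rw [← map_pow π, ← dM_pow, hνN, hone, ← map_mul π wM, hwsq, ← map_pword, pword_dM, ← hμ,
        minpoly.aeval, uM_zero]
      simp
    · simp only [map_mul, map_inv, fW, fH]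
      rw [← map_inv, ← map_mul, ← map_mul, wM_conj_dM, map_inv, inv_mul_cancel]
    · simp only [map_mul, fU, fW]
      simp only [← map_mul]
      rw [uw_cube, map_one]
  · intro P _ ψ hψ hr
    simp only [List.forall_mem_cons, map_mul, map_inv, map_pow, map_pword, mul_inv_eq_one] at hr
    obtain ⟨r1, r2, r3, r4, r5, -⟩ := hr
    have hgenP := closure_gens ψ hψ rfl rfl rfl
    rw [← hU, ← hH, ← hW] at hgenP
    generalize ψ U = u at *
    generalize ψ H = h at *
    generalize ψ W = w at *
    have hc1 : h * u * h⁻¹ = cj h u 1 := by simp [cj]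
    have hu2 : u * u = 1 := by rw [← sq]; exact r1
    have hcomm1 : Commute u (cj h u 1) := by
      rw [← hc1]
      have e1 : (h * u * h⁻¹) * (h * u * h⁻¹) = 1 := by
        calc (h * u * h⁻¹) * (h * u * h⁻¹) = h * (u * u) * h⁻¹ := by group
          _ = 1 := by rw [hu2]; group
      have e2 : (u * (h * u * h⁻¹)) * (u * (h * u * h⁻¹)) = 1 := by
        rw [← r2]
        calc (h ^ m * u * (h ^ m)⁻¹) * (h ^ m * u * (h ^ m)⁻¹) = h ^ m * (u * u) * (h ^ m)⁻¹ := by group
          _ = 1 := by rw [hu2]; group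
      generalize h * u * h⁻¹ = c at e1 e2 ⊢
      show u * c = c * u
      calc u * c = (u * u) * (u * c) * (c * c) := by rw [hu2, e1]; group
        _ = u * (u * (u * c) * c) * c := by group
        _ = u * ((u * u) * (c * c)) * c := by group
        _ = u * c := by rw [hu2, e1]; group
        _ = (u * c) * 1 := by group
        _ = (u * c) * ((u * c) * (u * c)) := by rw [e2]
        _ = ((u * c) * (u * c)) * (u * c) := by group
        _ = 1 * (u * c) := by rw [e2]
        _ = c⁻¹ * u⁻¹ := by
          rw [one_mul, ← _root_.mul_inv_rev]; exact eq_inv_of_mul_eq_one_left e2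
        _ = c * u := by rw [inv_eq_of_mul_eq_one_right e1, inv_eq_of_mul_eq_one_right hu2]
    have hxy : Commute h (h ^ m) := Commute.self_pow h m
    have hcom := commute_cj_all h u (commute_cj_of_step h u (y := h ^ m) hcomm1
      (by rw [← hc1]; exact r2) hxy)
    have hwh : w * h * w⁻¹ = h⁻¹ := eq_inv_of_mul_eq_one_left r4
    have hzh : Commute (w * w) h := by
      have : MulAut.conj w (MulAut.conj w h) = h := by
        rw [MulAut.conj_apply w h, hwh, map_inv, MulAut.conj_apply, hwh, inv_inv]
      simp only [MulAut.conj_apply] at this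
      show w * w * h = h * (w * w)
      calc w * w * h = w * (w * h * w⁻¹) * w⁻¹ * (w * w) := by group
        _ = _ := by rw [this]
    have hcx : Commute (w * w * h ^ N) h := hzh.mul_left (Commute.pow_self h N)
    have hc0 : w * w * h ^ N = 1 := merged_trivial hcom (by rw [← hc1]; exact r2) hxy _ r3 hcx
      (hcx.pow_right m)
    have hf : pword h u (minpoly (ZMod 2) μ) = 1 := r3.trans hc0
    have hhu : h * u * h⁻¹ = pword (h ^ 1) u (X : (ZMod 2)[X]) := by
      simp [pword, List.range_succ, ZMod.val_one]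
    -- the action of `h ^ N` on `u`
    obtain ⟨φ, hφ0, hφ1, hadd, hconj⟩ := exists_param (F := F) (x := h) (l := μ) (μ := μ) r1 hcom
      (fun b => ⟨Pg b, hPg b⟩) hf X (by simp) (Commute.refl h) (by simpa using hhu)
    have hx : ∀ (i : ℕ) b, h ^ i * φ b * (h ^ i)⁻¹ = φ (μ ^ i * b) := by
      intro i
      induction i with
      | zero => simp
      | succ i ih =>
        intro b
        calc h ^ (i + 1) * φ b * (h ^ (i + 1))⁻¹ = h ^ i * (h * φ b * h⁻¹) * (h ^ i)⁻¹ := by group
          _ = _ := by rw [hconj, ih, pow_succ μ i, mul_assoc]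
    have hzN : w * w = (h ^ N)⁻¹ := eq_inv_of_mul_eq_one_left hc0
    have hμN : μ ^ N = 1 := by
      rw [hμ, ← Units.val_pow_eq_pow_val, ← Units.val_pow_eq_pow_val, ← pow_mul, mul_comm, pow_mul,
        hνN, one_pow, Units.val_one]
    have hzu : Commute (w * w) u := by
      rw [hzN]
      refine Commute.inv_left ?_
      have := hx N 1
      rw [hμN, one_mul, hφ1] at this
      exact mul_inv_eq_iff_eq_mul.mp this
    have hz2 : (w * w) * (w * w) = 1 := by
      have a1 : MulAut.conj w (w * w) = (w * w)⁻¹ := by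
        rw [hzN, map_inv, map_pow, MulAut.conj_apply, hwh, inv_pow]
      have a2 : MulAut.conj w (w * w) = w * w := by rw [MulAut.conj_apply]; group
      exact mul_eq_one_iff_eq_inv.mpr (a2.symm.trans a1)
    have hw2 : w * w = 1 := weyl_sq_trivial hu2 r5 hzu hz2
    have hhN : h ^ N = 1 := by rwa [hw2, one_mul] at hc0
    have hpw : ∀ b, pword h u (Pg b) = φ b := by
      intro b
      have := pword_of_param (p := 2) φ hφ0 hadd hconj (Pg b)
      rwa [hφ1, hPg] at this
    refine (core_bound (p := 2) hν [1] (fun b hb => ?_) hgenP 1 Pg (by simpa using hPg) r1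
      (by simpa using hcom) (by simpa only [hμ, pow_one] using hf) X (by simp [hμ]) hhu N (by omega)
      hhN hwh 0 (by rw [hw2, pow_zero]) ?_).imp id (fun hle => hle.trans hcard)
    · obtain ⟨i, hi⟩ := hsqrt b hb
      exact ⟨i, 1, by simp, by rw [mul_one, ← hμ]; exact hi⟩
    · intro ε hε
      rw [List.mem_singleton] at hε
      subst hε
      refine ⟨1, 0, ?_⟩
      rw [pow_one, hpw, hφ1, pow_zero, mul_one]
      calc w * u * w = (u * u) * w * u * w * (u * u) * (w * w) := by rw [hu2, hw2]; group
        _ = u * (u * w * (u * w) * (u * w)) * w⁻¹ * u * (w * w) := by group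
        _ = u * w⁻¹ * u := by rw [r5, hw2]; group
        _ = u * w * u := by rw [inv_eq_of_mul_eq_one_right hw2]

/-- The field with two elements. -/
theorem two_case {T : Type*} [Group T] [Finite T] {ν : Fˣ}
    (hν : orderOf ν = Fintype.card F - 1) (h2 : Fintype.card F = 2)
    (π : SL(2, F) →* T) (hπ : Function.Surjective π) (hcard : 6 ≤ Nat.card T) :
    ∃ rels : Finset (FreeGroup (Fin 3)), rels.card ≤ 5 ∧
      Nonempty (PresentedGroup (↑rels : Set (FreeGroup (Fin 3))) ≃* T) := by
  classical
  have hν1 : ν = 1 := orderOf_eq_one_iff.mp (by rw [hν, h2])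
  set U : FreeGroup (Fin 3) := FreeGroup.of 0 with hU
  set H : FreeGroup (Fin 3) := FreeGroup.of 1 with hH
  set W : FreeGroup (Fin 3) := FreeGroup.of 2 with hW
  let f : Fin 3 → T := ![π (uM 1), π (dM ν), π wM]
  have fU : FreeGroup.lift f U = π (uM 1) := by simp [hU, f]
  have fH : FreeGroup.lift f H = π (dM ν) := by simp [hH, f]
  have fW : FreeGroup.lift f W = π wM := by simp [hW, f]
  have hgen : Subgroup.closure (Set.range f) = ⊤ := by
    have h := congrArg (Subgroup.map π) (gens_closure hν)
    rw [MonoidHom.map_closure, ← MonoidHom.range_eq_map, MonoidHom.range_eq_top.mpr hπ] at h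
    rw [← h]
    congr 1
    ext z
    simp [f, Set.mem_image, eq_comm]
    try tauto
  have hone : dM (1 : Fˣ) = 1 := map_one (dHom (F := F))
  have hwsq : (wM : SL(2, F)) * wM = 1 := by
    rw [wM_sq, show (-1 : Fˣ) = 1 from Units.ext (by simp [neg_eq']), hone]
  have hu2' : uM (1 : F) * uM 1 = 1 := by
    rw [← uM_add, one_add_one_eq_two, two_eq_zero', uM_zero]
  refine pres_iso [U ^ 2, H, W * W, U * W * (U * W) * (U * W)] 5 (by simp) f hgen ?_ ?_
  · intro r hr
    simp only [List.mem_cons, List.not_mem_nil, or_false] at hr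
    rcases hr with rfl | rfl | rfl | rfl
    · rw [map_pow, fU, ← map_pow, sq, hu2', map_one]
    · rw [fH, hν1, hone, map_one]
    · rw [map_mul, fW, ← map_mul, hwsq, map_one]
    · simp only [map_mul, fU, fW]
      simp only [← map_mul]
      rw [uw_cube, map_one]
  · intro P _ ψ hψ hr
    simp only [List.forall_mem_cons, map_mul, map_pow] at hr
    obtain ⟨r1, r2, r3, r4, -⟩ := hr
    have hgenP := closure_gens ψ hψ rfl rfl rfl
    rw [← hU, ← hH, ← hW] at hgenP
    generalize ψ U = u at *
    generalize ψ H = h at *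
    generalize ψ W = w at *
    subst r2
    have hu2 : u * u = 1 := by rw [← sq]; exact r1
    have helts : ∀ b : F, b = 0 ∨ b = 1 := by
      intro b
      by_contra hb
      rw [not_or] at hb
      have : ({0, 1, b} : Finset F).card = 3 := by
        simp [Ne.symm hb.1, Ne.symm hb.2]
      have := Finset.card_le_univ ({0, 1, b} : Finset F)
      omega
    refine (card_le (fun b : F => if b = 0 then 1 else u) 1 w 1 1 one_pos one_ne_zero (by simp)
      (fun a b => ?_) (fun b => by simp) (by simp) (by simp) 0 (by rw [r3, pow_zero]) (fun b hb => ?_)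
      (by simpa using hgenP)).imp id (fun hle => hle.trans (le_of_eq_of_le (by rw [h2]) hcard))
    · rcases helts a with rfl | rfl <;> rcases helts b with rfl | rfl <;>
        simp [one_add_one_eq_two, two_eq_zero', hu2]
    · refine ⟨0, b, by simp, 1, 1, 0, ?_⟩
      rw [if_neg hb, if_neg one_ne_zero, pow_zero, mul_one]
      calc w * u * w = (u * u) * w * u * w * (u * u) * (w * w) := by rw [hu2, r3]; group
        _ = u * (u * w * (u * w) * (u * w)) * w⁻¹ * u * (w * w) := by group
        _ = u * w⁻¹ * u := by rw [r4, r3]; group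
        _ = u * w * u := by rw [inv_eq_of_mul_eq_one_right r3]

end Cfsg.Agent.SL2Pres
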